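import Cfsg.Agent.H141.Rg.Lin
import Cfsg.Prelude.Def_LieClassical

/-!
# S5714: the actions of the classical groups, and the wanted bounds as definitions
-/

set_option autoImplicit false

namespace Cfsg.Agent.H141.Rg

open Cfsg Polynomial Module

/-- matrices acting on column vectors -/
noncomputable def matAct (ι : Type) [Fintype ι] [DecidableEq ι] (F : Type) [Field F] :
    Matrix ι ι F →* ((ι → F) →ₗ[F] (ι → F)) where
  toFun := Matrix.toLin'
  map_one' := Matrix.toLin'_one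
  map_mul' := Matrix.toLin'_mul

/-- `GL_n(F)` -/
noncomputable def glAct (n : ℕ) (F : Type) [Field F] : GL (Fin n) F →* ((Fin n → F) →ₗ[F] (Fin n → F)) :=
  (matAct (Fin n) F).comp (Units.coeHom _)

/-- `SL_n(F)` -/
noncomputable def slAct (n : ℕ) (F : Type) [Field F] :
    Matrix.SpecialLinearGroup (Fin n) F →* ((Fin n → F) →ₗ[F] (Fin n → F)) :=
  (glAct n F).comp Matrix.SpecialLinearGroup.toGL

/-- `GU_n(q)` -/
noncomputable def guAct (n : ℕ) (F : Type) [Field F] (q : ℕ) : GU n F q →* ((Fin n → F) →ₗ[F] (Fin n → F)) :=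
  (glAct n F).comp (GU n F q).subtype

/-- `SU_n(q)` -/
noncomputable def suAct (n : ℕ) (F : Type) [Field F] (q : ℕ) : SU n F q →* ((Fin n → F) →ₗ[F] (Fin n → F)) :=
  (slAct n F).comp (SU n F q).subtype

/-- `Sp_2m(F)` -/
noncomputable def spAct (m : ℕ) (F : Type) [Field F] :
    Matrix.symplecticGroup (Fin m) F →* ((Fin m ⊕ Fin m → F) →ₗ[F] (Fin m ⊕ Fin m → F)) :=
  (matAct (Fin m ⊕ Fin m) F).comp (Matrix.symplecticGroup (Fin m) F).subtype

/-- isometry groups of quadratic forms -/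
noncomputable def isoAct {ι : Type} [Fintype ι] [DecidableEq ι] (F : Type) [Field F] (Q : (ι → F) → F) :
    isometryGroup F Q →* ((ι → F) →ₗ[F] (ι → F)) :=
  (matAct ι F).comp ((Units.coeHom _).comp (isometryGroup F Q).subtype)

/-- `Ω(Q)` -/
noncomputable def omAct {ι : Type} [Fintype ι] [DecidableEq ι] (F : Type) [Field F] (Q : (ι → F) → F) :
    Omega F Q →* ((ι → F) →ₗ[F] (ι → F)) :=
  (isoAct F Q).comp (Omega F Q).subtype

section

variable {K V : Type*} [Field K] [AddCommGroup V] [Module K V]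

/-- the bound for the powers of `X - 1` and `X + 1` (orthogonal groups) -/
def ELpm {X : Type*} [Group X] (τ : X →* (V →ₗ[K] V)) (c : ℕ → ℝ) : Prop :=
  ∀ (j : ℕ) (a : K), 1 ≤ j → a = 1 ∨ a = -1 →
    (Nat.card {p : X × V // Ann (τ p.1) p.2 ((Polynomial.X - C a) ^ j)} : ℝ) ≤
      c j * (Nat.card K * Real.sqrt ((Nat.card K : ℝ) ^ j)) * Nat.card X

/-- sharper bounds for `j = 1, 2, 3` (orthogonal groups) -/
def ELsh {X : Type*} [Group X] (τ : X →* (V →ₗ[K] V)) (c : ℝ) : Prop :=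
  ∀ (a : K), a = 1 ∨ a = -1 →
    (Nat.card {p : X × V // Ann (τ p.1) p.2 (Polynomial.X - C a)} : ℝ) ≤ c * Nat.card K * Nat.card X ∧
    (Nat.card {p : X × V // Ann (τ p.1) p.2 ((Polynomial.X - C a) ^ 3)} : ℝ) ≤ c * Nat.card K ^ 2 * Nat.card X ∧
    ((2 : K) ≠ 0 → (Nat.card {p : X × V // Ann (τ p.1) p.2 ((Polynomial.X - C a) ^ 2)} : ℝ) ≤
      c * Nat.card K * Nat.card X)

end

end Cfsg.Agent.H141.Rg
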