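import Cfsg.Prelude.Def_Characters
import Cfsg.Agent.H436.Names

/-!
# S5714 (random generation of finite simple groups): definitions

* `gp T` : the number of generating pairs;
* `Rat ρ z` : `|χ(z)| ≤ ρ χ(1)` for all nontrivial irreducible characters;
* `NF n w T` : `n` normal sets of density `≥ 1 / w` such that every proper subgroup misses one of them;
* `FamNF P`, `FamP P` : the two wanted properties of a family `P` of names;
* `ordLe T k` : the number of elements `y` with `y ^ m = 1` for some `1 ≤ m ≤ k`.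
-/

set_option autoImplicit false

namespace Cfsg.Agent.H141.Rg

open Cfsg Cfsg.Agent.OrdDiv Cfsg.Agent.H436

universe u

/-- the number of generating pairs -/
noncomputable def gp (T : Type u) [Group T] : ℕ :=
  Nat.card {xy : T × T // Subgroup.closure {xy.1, xy.2} = ⊤}

/-- all nontrivial irreducible characters have absolute value at most `ρ χ(1)` at `z` -/
def Rat (ρ : ℝ) {T : Type u} [Group T] (z : T) : Prop :=
  ∀ χ : T → ℂ, IsIrrCharacter T χ → (∃ g, χ g ≠ 1) → ‖χ z‖ ≤ ρ * (χ 1).re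

/-- sets invariant under conjugation -/
def CInv {T : Type u} [Group T] (E : Set T) : Prop := ∀ x ∈ E, ∀ g : T, g * x * g⁻¹ ∈ E

/-- `n` normal sets of density at least `1 / w`; every proper subgroup misses one of them -/
def NF (n : ℕ) (w : ℝ) (T : Type u) [Group T] : Prop :=
  ∃ E : Fin n → Set T, (∀ i, CInv (E i)) ∧ (∀ i, (Nat.card T : ℝ) ≤ w * Nat.card (E i)) ∧
    ∀ R : Subgroup T, R ≠ ⊤ → ∃ i, ∀ x ∈ R, x ∉ E i

/-- `log |T|` -/
noncomputable def lg (T : Type u) : ℝ := Real.log (Nat.card T)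

/-- a power of a random element has a large ratio -/
noncomputable def badN (T : Type u) [Group T] (k ρ : ℝ) : ℕ :=
  Nat.card {y : T // ∃ m : ℕ, 1 ≤ m ∧ (m : ℝ) ≤ k ∧ ¬ Rat ρ (y ^ m)}

/-- normal sets for all large groups of a family -/
def FamNF (P : Grp → Prop) : Prop :=
  ∃ (C : ℝ) (D : ℕ), 0 < C ∧ ∀ (g : Grp) (T : Type) [Group T] [Finite T] [IsSimpleGroup T],
    IsNamed g T → P g → D ≤ Nat.card T → ∃ n : ℕ, (n : ℝ) ≤ C * lg T ∧ NF n (C * lg T) T

/-- ratios at the powers of a random element, for all large groups of a family -/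
def FamP (P : Grp → Prop) : Prop :=
  ∀ (a : ℕ) (ε : ℝ), 0 < ε → ∃ D : ℕ, ∀ (g : Grp) (T : Type) [Group T] [Finite T] [IsSimpleGroup T],
    IsNamed g T → P g → D ≤ Nat.card T → (badN T (lg T ^ a) ((lg T ^ a)⁻¹) : ℝ) ≤ ε * Nat.card T

/-- almost all pairs generate, for all large groups of a family -/
def FamGen (P : Grp → Prop) : Prop :=
  ∀ ε : ℝ, 0 < ε → ∃ D : ℕ, ∀ (g : Grp) (T : Type) [Group T] [Finite T] [IsSimpleGroup T],
    IsNamed g T → P g → D ≤ Nat.card T → (1 - ε) * (Nat.card T : ℝ) ^ 2 ≤ gp T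

/-- elements of small order -/
noncomputable def ordLe (T : Type u) [Group T] (k : ℝ) : ℕ :=
  Nat.card {y : T // ∃ m : ℕ, 1 ≤ m ∧ (m : ℝ) ≤ k ∧ y ^ m = 1}

/-- data for the small order estimate: a parametrised set of elements `x t` such that `(g x(t)) ^ m = 1` has few
solutions `t` for many `g` -/
def OrdData (T : Type) [Group T] (q : ℕ) (c0 D0 : ℝ) : Prop :=
  ∃ (F : Type) (_ : Finite F) (x : F → T) (S : Set T) (D : ℕ), Function.Injective x ∧ Nat.card F = q ∧
    c0 * (Nat.card T : ℝ) ≤ Nat.card S ∧ (D : ℝ) ≤ D0 * Real.sqrt q ∧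
    ∀ g ∈ S, ∀ m, 1 ≤ m → Nat.card {t : F // (g * x t) ^ m = 1} ≤ D * m

theorem FamNF.or {P Q : Grp → Prop} (hP : FamNF P) (hQ : FamNF Q) : FamNF fun g => P g ∨ Q g := by
  obtain ⟨C, D, hC, h⟩ := hP
  obtain ⟨C', D', hC', h'⟩ := hQ
  have key : ∀ (c : ℝ) (T : Type) [Group T] [Finite T], c ≤ max C C' → (∃ n : ℕ, (n : ℝ) ≤ c * lg T ∧ NF n (c * lg T) T) →
      ∃ n : ℕ, (n : ℝ) ≤ max C C' * lg T ∧ NF n (max C C' * lg T) T := by
    intro c T _ _ hc ⟨n, hn, E, h1, h2, h3⟩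
    have hl : 0 ≤ lg T := Real.log_natCast_nonneg _
    have hcl : c * lg T ≤ max C C' * lg T := mul_le_mul_of_nonneg_right hc hl
    exact ⟨n, hn.trans hcl, E, h1, fun i => (h2 i).trans (mul_le_mul_of_nonneg_right hcl (Nat.cast_nonneg _)), h3⟩
  refine ⟨max C C', max D D', lt_max_of_lt_left hC, fun g T _ _ _ hT hg hD => ?_⟩
  rcases hg with hg | hg
  · exact key C T (le_max_left _ _) (h g T hT hg ((le_max_left _ _).trans hD))
  · exact key C' T (le_max_right _ _) (h' g T hT hg ((le_max_right _ _).trans hD))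

theorem FamNF.mono {P Q : Grp → Prop} (hQ : FamNF Q) (h : ∀ g, P g → Q g) : FamNF P := by
  obtain ⟨C, D, hC, hh⟩ := hQ
  exact ⟨C, D, hC, fun g T _ _ _ hT hg => hh g T hT (h g hg)⟩

theorem FamP.or {P Q : Grp → Prop} (hP : FamP P) (hQ : FamP Q) : FamP fun g => P g ∨ Q g := by
  intro a ε hε
  obtain ⟨D, h⟩ := hP a ε hε
  obtain ⟨D', h'⟩ := hQ a ε hε
  refine ⟨max D D', fun g T _ _ _ hT hg hD => ?_⟩
  rcases hg with hg | hg
  · exact h g T hT hg ((le_max_left _ _).trans hD)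
  · exact h' g T hT hg ((le_max_right _ _).trans hD)

theorem FamP.mono {P Q : Grp → Prop} (hQ : FamP Q) (h : ∀ g, P g → Q g) : FamP P := by
  intro a ε hε
  obtain ⟨D, hh⟩ := hQ a ε hε
  exact ⟨D, fun g T _ _ _ hT hg => hh g T hT (h g hg)⟩

theorem FamGen.or {P Q : Grp → Prop} (hP : FamGen P) (hQ : FamGen Q) : FamGen fun g => P g ∨ Q g := by
  intro ε hε
  obtain ⟨D, h⟩ := hP ε hε
  obtain ⟨D', h'⟩ := hQ ε hε
  refine ⟨max D D', fun g T _ _ _ hT hg hD => ?_⟩
  rcases hg with hg | hg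
  · exact h g T hT hg ((le_max_left _ _).trans hD)
  · exact h' g T hT hg ((le_max_right _ _).trans hD)

/-! ### conjugates of a subgroup -/

section conj

variable {G : Type u} [Group G]

/-- `g X g⁻¹` -/
def cj (X : Subgroup G) (g : G) : Subgroup G := X.map (MulAut.conj g).toMonoidHom

/-- `A`, `B` are members of a family of `|X| + 1` conjugates of `X` which partition a group of order `|X|²` -/
def Adj (X A B : Subgroup G) : Prop :=
  ∃ (S : Finset (Subgroup G)) (Q : Subgroup G), A ∈ S ∧ B ∈ S ∧ (∀ C ∈ S, ∃ g, C = cj X g) ∧ S.card = Nat.card X + 1 ∧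
    (∀ C ∈ S, ∀ D ∈ S, C ≠ D → C ⊓ D = ⊥) ∧ (∀ C ∈ S, C ≤ Q) ∧ Nat.card Q = Nat.card X ^ 2

/-- the commutators of `z` with the elements of a subgroup run bijectively through a conjugate of `X` -/
def Lev (X : Subgroup G) (z : G) : Prop :=
  ∃ (Y : Subgroup G) (h : G), Set.BijOn (fun w => z * w * z⁻¹ * w⁻¹) Y (cj X h)

/-- long root groups: conjugates of `X` intersect trivially, are connected by at most `c` steps, and products of
nontrivial elements of two different ones are of level one -/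
structure LRG (X : Subgroup G) (c : ℕ) : Prop where
  ti : ∀ g, cj X g ≠ X → cj X g ⊓ X = ⊥
  conn : ∀ g, ∃ (l : ℕ) (p : ℕ → Subgroup G), l ≤ c ∧ p 0 = X ∧ p l = cj X g ∧ ∀ i < l, Adj X (p i) (p (i + 1))
  lev : ∀ g, cj X g ≠ X → ∀ a ∈ X, a ≠ 1 → ∀ b ∈ cj X g, b ≠ 1 → Lev X (a * b)

end conj

end Cfsg.Agent.H141.Rg
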