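import Mathlib

/-!
# S5714: counting vectors with a given annihilator, definitions

`K` a finite field, `V` a finite `K`-space, `τ : X →* (V →ₗ[K] V)` a finite group acting on `V`.

* `Ann y v g` : `g` generates the annihilator of `v` under `y`;
* `str σ g` : the `σ`-conjugate reciprocal of `g`, `ed σ g` : the degree of `gcd (g, str σ g)`;
* `EL σ τ s c` : for all monic `g` prime to `s` with `g(0) ≠ 0` the number of pairs `(x, v)` with `Ann (τ x) v g` is at
  most `c (deg g) * |K| ^ (ed σ g / 2) * |X|`;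
* `Irr' f` : monic irreducible, different from the indeterminate;
* `Dv y f` : `f` divides the characteristic polynomial of `y`; `Rep2 y f` : it does so at least twice;
* `B1 k f`, `B2 k f h` : coincidences between the powers of the roots;
* `smallP y S` : the sum of the primary components of `y` for the polynomials in `S`;
* `GoodPow y A k` : `A` has a `y`-invariant complement `B` such that for `1 ≤ m < k` the centraliser of `y ^ m`
  preserves `A` and `B` and commutes with `y` on `B`.
-/

set_option autoImplicit false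

namespace Cfsg.Agent.H141.Rg

open Polynomial Module

section

variable {K V : Type*} [Field K] [AddCommGroup V] [Module K V]

/-- `g` generates the annihilator of `v` under `y` -/
def Ann (y : V →ₗ[K] V) (v : V) (g : K[X]) : Prop := ∀ f : K[X], aeval y f v = 0 ↔ g ∣ f

/-- the conjugate reciprocal -/
noncomputable def str (σ : K →+* K) (g : K[X]) : K[X] := (g.map σ).reverse

open Classical in
/-- the degree of the greatest common divisor of `g` and its conjugate reciprocal -/
noncomputable def ed (σ : K →+* K) (g : K[X]) : ℕ := (EuclideanDomain.gcd g (str σ g)).natDegree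

/-- the bound for the number of pairs -/
def EL (σ : K →+* K) {X : Type*} [Group X] (τ : X →* (V →ₗ[K] V)) (s : K[X]) (c : ℕ → ℝ) : Prop :=
  ∀ g : K[X], g.Monic → g.coeff 0 ≠ 0 → IsCoprime g s →
    (Nat.card {p : X × V // Ann (τ p.1) p.2 g} : ℝ) ≤
      c g.natDegree * Real.sqrt ((Nat.card K : ℝ) ^ ed σ g) * Nat.card X

/-- monic irreducible polynomials different from `X` -/
def Irr' (f : K[X]) : Prop := f.Monic ∧ Irreducible f ∧ f ≠ Polynomial.X

/-- `f` divides the characteristic polynomial -/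
def Dv (y : V →ₗ[K] V) (f : K[X]) : Prop := ∃ v, v ≠ 0 ∧ aeval y f v = 0

/-- `f ^ 2` divides the characteristic polynomial (`f` irreducible) -/
def Rep2 (y : V →ₗ[K] V) (f : K[X]) : Prop :=
  2 * f.natDegree ≤ finrank K (LinearMap.ker (aeval y f)) ∨ ∃ v, aeval y (f ^ 2) v = 0 ∧ aeval y f v ≠ 0

/-- two different roots of `f` have the same `m`-th power -/
def B1 (k : ℕ) (f : K[X]) : Prop :=
  ∃ m, 1 ≤ m ∧ m < k ∧ ∃ a b : AlgebraicClosure K, aeval a f = 0 ∧ aeval b f = 0 ∧ a ≠ b ∧ a ^ m = b ^ m

/-- a root of `f` and a root of `h` have the same `m`-th power -/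
def B2 (k : ℕ) (f h : K[X]) : Prop :=
  ∃ m, 1 ≤ m ∧ m < k ∧ ∃ a b : AlgebraicClosure K, aeval a f = 0 ∧ aeval b h = 0 ∧ a ^ m = b ^ m

/-- the sum of the primary components -/
noncomputable def smallP (y : V →ₗ[K] V) (S : Set K[X]) : Submodule K V :=
  ⨆ f ∈ S, ⨆ j : ℕ, LinearMap.ker (aeval y (f ^ j))

/-- the good situation -/
def GoodPow (y : V →ₗ[K] V) (A : Submodule K V) (k : ℕ) : Prop :=
  ∃ B : Submodule K V, IsCompl A B ∧ (∀ a ∈ A, y a ∈ A) ∧ (∀ b ∈ B, y b ∈ B) ∧
    ∀ m, 1 ≤ m → m < k → ∀ f : V →ₗ[K] V, Commute f (y ^ m) →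
      (∀ a ∈ A, f a ∈ A) ∧ (∀ b ∈ B, f b ∈ B) ∧ ∀ b ∈ B, f (y b) = y (f b)

/-- the small polynomials -/
def Sml (L : ℕ) (s : K[X]) : Set K[X] := {f | Irr' f ∧ (f.natDegree < L ∨ f ∣ s)}

end

end Cfsg.Agent.H141.Rg
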